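import Mathlib

set_option autoImplicit false

/-!
# Words for a presentation of the triple cover of `G₂(3)` (helper28)

Letters `l < 12` stand for the twelve root elements `x_r(1)` of `G₂(3)` (indices as in the tables of the definitions:
`0, 1, 5, 6, 10, 11` long, `2, 3, 4, 7, 8, 9` short) and `12 ≤ l < 24` for their inverses.  The relators say: cubes; the
Steinberg relations of `SL₃(3)` for the six long and for the six short root elements; long and short root elements
at an angle of 30 degrees commute; and 36 words (the commutators of long and short root elements at 90 degrees, and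
the defects of the commutator formula for long and short root elements at 150 degrees) are central.
-/

namespace Cfsg.Agent.Lib.H28.G23M

/-- the inverse letter -/
def linv (l : ℕ) : ℕ := if (l / 12) % 2 = 0 then l + 12 else l - 12

/-- the inverse word -/
def winv (w : List ℕ) : List ℕ := (w.map linv).reverse

/-- the relator `x y x⁻¹ y⁻¹ z⁻¹` -/
def stWord (x y z : ℕ) : List ℕ := [x, y, linv x, linv y, linv z]

/-- the relator `x y x⁻¹ y⁻¹` -/
def commWord (x y : ℕ) : List ℕ := [x, y, linv x, linv y]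

/-- the relator `c q c⁻¹ q⁻¹` -/
def cenWord (c : List ℕ) (q : ℕ) : List ℕ := c ++ [q] ++ winv c ++ [linv q]

/-- the Steinberg relations `x y x⁻¹ y⁻¹ = z` -/
def stL : List (ℕ × ℕ × ℕ) := [(0, 6, 1), (6, 10, 11), (1, 5, 0), (10, 0, 5), (5, 11, 10), (11, 1, 6), (2, 7, 3), (7, 8, 9), (3, 4, 2), (8, 2, 4), (4, 9, 8), (9, 3, 7)]

/-- the commuting pairs -/
def commL : List (ℕ × ℕ) := [(0, 1), (0, 5), (6, 1), (6, 11), (10, 5), (10, 11), (2, 3), (2, 4), (7, 3), (7, 9), (8, 4), (8, 9), (0, 2), (0, 3), (1, 2), (1, 4), (5, 3), (5, 7), (6, 4), (6, 8), (10, 7), (10, 9), (11, 8), (11, 9)]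

/-- the central words -/
def cenL : List (List ℕ) := [
  [0, 4, 12, 16],
  [0, 7, 12, 19],
  [1, 3, 13, 15],
  [1, 8, 13, 20],
  [5, 2, 17, 14],
  [5, 9, 17, 21],
  [6, 2, 18, 14],
  [6, 9, 18, 21],
  [10, 3, 22, 15],
  [10, 8, 22, 20],
  [11, 4, 23, 16],
  [11, 7, 23, 19],
  [20, 12, 8, 0, 13, 18, 4, 2],
  [21, 12, 9, 0, 5, 22, 19, 15],
  [19, 13, 7, 1, 0, 5, 15, 2],
  [21, 13, 9, 1, 18, 11, 8, 16],
  [22, 14, 10, 2, 5, 0, 15, 19],
  [23, 14, 11, 2, 18, 13, 4, 20],
  [18, 15, 6, 3, 13, 0, 2, 4],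
  [23, 15, 11, 3, 10, 17, 19, 9],
  [17, 16, 5, 4, 0, 13, 14, 3],
  [22, 16, 10, 4, 23, 6, 8, 9],
  [16, 17, 4, 5, 12, 1, 2, 15],
  [20, 17, 8, 5, 10, 11, 21, 7],
  [15, 18, 3, 6, 1, 12, 14, 16],
  [19, 18, 7, 6, 23, 22, 9, 8],
  [13, 19, 1, 7, 12, 17, 3, 14],
  [18, 19, 6, 7, 11, 10, 21, 20],
  [12, 20, 0, 8, 1, 6, 16, 14],
  [17, 20, 5, 8, 22, 23, 9, 19],
  [12, 21, 0, 9, 17, 10, 7, 3],
  [13, 21, 1, 9, 6, 23, 20, 4],
  [14, 22, 2, 10, 17, 12, 3, 7],
  [16, 22, 4, 10, 11, 18, 20, 21],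
  [14, 23, 2, 11, 6, 1, 16, 8],
  [15, 23, 3, 11, 22, 5, 7, 21]]

/-- the cubes of the generators -/
def cubeL : List (List ℕ) := (List.range 12).map fun i => [i, i, i]

/-- the trivial relators -/
def invL : List (List ℕ) := [] :: (List.range 24).map fun l => [l, linv l]

/-- all the relators -/
def relL : List (List ℕ) :=
  cubeL ++ invL ++ stL.map (fun s => stWord s.1 s.2.1 s.2.2) ++ commL.map (fun p => commWord p.1 p.2) ++
    cenL.flatMap (fun c => (List.range 12).map (cenWord c))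

/-- the generators of the subgroup: the long root elements -/
def subL : List (List ℕ) := [[0], [6], [1], [10], [5], [11]]

section ev

variable {G : Type*} [Group G]

/-- the value of a letter -/
def lv (x : ℕ → G) (l : ℕ) : G := if (l / 12) % 2 = 0 then x (l % 12) else (x (l % 12))⁻¹

/-- the value of a word -/
def ev (x : ℕ → G) (w : List ℕ) : G := (w.map (lv x)).prod

theorem ev_nil (x : ℕ → G) : ev x [] = 1 := rfl

theorem ev_cons (x : ℕ → G) (l : ℕ) (w : List ℕ) : ev x (l :: w) = lv x l * ev x w := by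
  unfold ev
  rw [List.map_cons, List.prod_cons]

theorem ev_append (x : ℕ → G) (w w' : List ℕ) : ev x (w ++ w') = ev x w * ev x w' := by
  unfold ev
  rw [List.map_append, List.prod_append]

theorem ev_single (x : ℕ → G) (l : ℕ) : ev x [l] = lv x l := by
  rw [ev_cons, ev_nil, mul_one]

theorem lv_linv (x : ℕ → G) (l : ℕ) : lv x (linv l) = (lv x l)⁻¹ := by
  unfold lv linv
  by_cases h : (l / 12) % 2 = 0
  · rw [if_pos h, if_pos h]
    have h1 : ¬ ((l + 12) / 12) % 2 = 0 := by omega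
    have h2 : (l + 12) % 12 = l % 12 := by omega
    rw [if_neg h1, h2]
  · rw [if_neg h, if_neg h]
    have h1 : ((l - 12) / 12) % 2 = 0 := by omega
    have h2 : (l - 12) % 12 = l % 12 := by omega
    rw [if_pos h1, h2, inv_inv]

theorem ev_winv (x : ℕ → G) (w : List ℕ) : ev x (winv w) = (ev x w)⁻¹ := by
  induction w with
  | nil => simp [winv, ev]
  | cons l w ih =>
    have e : winv (l :: w) = winv w ++ [linv l] := by
      unfold winv
      rw [List.map_cons, List.reverse_cons]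
    rw [e, ev_append, ih, ev_single, lv_linv, ev_cons, mul_inv_rev]

theorem ev_stWord (x : ℕ → G) (a b c : ℕ) :
    ev x (stWord a b c) = lv x a * lv x b * (lv x a)⁻¹ * (lv x b)⁻¹ * (lv x c)⁻¹ := by
  unfold stWord
  rw [ev_cons, ev_cons, ev_cons, ev_cons, ev_single, lv_linv, lv_linv, lv_linv]
  group

theorem ev_commWord (x : ℕ → G) (a b : ℕ) :
    ev x (commWord a b) = lv x a * lv x b * (lv x a)⁻¹ * (lv x b)⁻¹ := by
  unfold commWord
  rw [ev_cons, ev_cons, ev_cons, ev_single, lv_linv, lv_linv]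
  group

theorem ev_cenWord (x : ℕ → G) (c : List ℕ) (q : ℕ) :
    ev x (cenWord c q) = ev x c * lv x q * (ev x c)⁻¹ * (lv x q)⁻¹ := by
  unfold cenWord
  rw [ev_append, ev_append, ev_append, ev_single, ev_single, ev_winv, lv_linv]

theorem lv_of_lt (x : ℕ → G) {i : ℕ} (hi : i < 12) : lv x i = x i := by
  unfold lv
  have h1 : (i / 12) % 2 = 0 := by omega
  have h2 : i % 12 = i := by omega
  rw [if_pos h1, h2]

theorem map_lv {H : Type*} [Group H] (σ : G →* H) (x : ℕ → G) (l : ℕ) :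
    σ (lv x l) = lv (fun i => σ (x i)) l := by
  unfold lv
  split_ifs
  · rfl
  · rw [map_inv]

theorem map_ev {H : Type*} [Group H] (σ : G →* H) (x : ℕ → G) (w : List ℕ) :
    σ (ev x w) = ev (fun i => σ (x i)) w := by
  induction w with
  | nil => rw [ev_nil, ev_nil, map_one]
  | cons l w ih => rw [ev_cons, ev_cons, map_mul, ih, map_lv]

/-- the relations in structured form -/
structure Rels (x : ℕ → G) : Prop where
  cube : ∀ i < 12, x i ^ 3 = 1
  st : ∀ s ∈ stL, x s.1 * x s.2.1 * (x s.1)⁻¹ * (x s.2.1)⁻¹ = x s.2.2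
  comm : ∀ p ∈ commL, x p.1 * x p.2 = x p.2 * x p.1
  cen : ∀ c ∈ cenL, ∀ q < 12, ev x c * x q = x q * ev x c

theorem stL_lt : ∀ s ∈ stL, s.1 < 12 ∧ s.2.1 < 12 ∧ s.2.2 < 12 := by decide

theorem commL_lt : ∀ p ∈ commL, p.1 < 12 ∧ p.2 < 12 := by decide

theorem Rels.ev_eq_one {x : ℕ → G} (h : Rels x) : ∀ w ∈ relL, ev x w = 1 := by
  intro w hw
  unfold relL at hw
  simp only [List.mem_append, List.mem_map, List.mem_flatMap, List.mem_range] at hw
  rcases hw with (((hw | hw) | ⟨s, hs, rfl⟩) | ⟨p, hp, rfl⟩) | ⟨c, hc, q, hq, rfl⟩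
  · unfold cubeL at hw
    obtain ⟨i, hi, rfl⟩ := List.mem_map.mp hw
    rw [List.mem_range] at hi
    rw [ev_cons, ev_cons, ev_single, lv_of_lt x hi, ← mul_assoc, ← pow_two, ← pow_succ]
    exact h.cube i hi
  · unfold invL at hw
    rcases List.mem_cons.mp hw with rfl | hw
    · rfl
    · obtain ⟨l, -, rfl⟩ := List.mem_map.mp hw
      rw [ev_cons, ev_single, lv_linv, mul_inv_cancel]
  · obtain ⟨h1, h2, h3⟩ := stL_lt s hs
    rw [ev_stWord, lv_of_lt x h1, lv_of_lt x h2, lv_of_lt x h3, h.st s hs, mul_inv_cancel]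
  · obtain ⟨h1, h2⟩ := commL_lt p hp
    rw [ev_commWord, lv_of_lt x h1, lv_of_lt x h2, h.comm p hp]
    group
  · rw [ev_cenWord, lv_of_lt x hq, h.cen c hc q hq]
    group

theorem rels_of_ev_eq_one {x : ℕ → G} (h : ∀ w ∈ relL, ev x w = 1) : Rels x := by
  have mem1 : ∀ i < 12, [i, i, i] ∈ relL := by
    intro i hi
    unfold relL
    simp only [List.mem_append]
    left; left; left; left
    exact List.mem_map.mpr ⟨i, List.mem_range.mpr hi, rfl⟩
  have mem2 : ∀ s ∈ stL, stWord s.1 s.2.1 s.2.2 ∈ relL := by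
    intro s hs
    unfold relL
    simp only [List.mem_append]
    left; left; right
    exact List.mem_map.mpr ⟨s, hs, rfl⟩
  have mem3 : ∀ p ∈ commL, commWord p.1 p.2 ∈ relL := by
    intro p hp
    unfold relL
    simp only [List.mem_append]
    left; right
    exact List.mem_map.mpr ⟨p, hp, rfl⟩
  have mem4 : ∀ c ∈ cenL, ∀ q < 12, cenWord c q ∈ relL := by
    intro c hc q hq
    unfold relL
    simp only [List.mem_append]
    right
    exact List.mem_flatMap.mpr ⟨c, hc, List.mem_map.mpr ⟨q, List.mem_range.mpr hq, rfl⟩⟩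
  refine ⟨?_, ?_, ?_, ?_⟩
  · intro i hi
    have := h _ (mem1 i hi)
    rw [ev_cons, ev_cons, ev_single, lv_of_lt x hi] at this
    rw [pow_succ, pow_two, mul_assoc]
    exact this
  · intro s hs
    obtain ⟨h1, h2, h3⟩ := stL_lt s hs
    have := h _ (mem2 s hs)
    rw [ev_stWord, lv_of_lt x h1, lv_of_lt x h2, lv_of_lt x h3, mul_inv_eq_one] at this
    exact this
  · intro p hp
    obtain ⟨h1, h2⟩ := commL_lt p hp
    have := h _ (mem3 p hp)
    rw [ev_commWord, lv_of_lt x h1, lv_of_lt x h2, mul_inv_eq_one, mul_inv_eq_iff_eq_mul] at this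
    exact this
  · intro c hc q hq
    have := h _ (mem4 c hc q hq)
    rw [ev_cenWord, lv_of_lt x hq, mul_inv_eq_one, mul_inv_eq_iff_eq_mul] at this
    exact this

end ev

end Cfsg.Agent.Lib.H28.G23M
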