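import Cfsg.Agent.Lib.H28.G23M.Cert.Run
import Cfsg.Agent.Lib.H28.G23M.Cert.Rows
import Cfsg.Agent.Lib.H28.TitsM.Steinberg
import Cfsg.Agent.Lib.H28.HeM.CertGlue

set_option autoImplicit false
set_option maxRecDepth 100000

/-!
# A group on twelve generators with the relations `Rels` has order at most `12737088` (helper28)

The six long root elements satisfy the Steinberg relations of `SL₃(3)` and so generate a subgroup of order at most
`5616`; a certified coset enumeration shows that it has index at most `2268`.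
-/

namespace Cfsg.Agent.Lib.H28.G23M

open Cfsg.Agent.Lib.H17.CosetCert Cfsg.Agent.Lib.H28.CosetCertD Cfsg.Agent.Lib.H28.HeM Cfsg.Agent.Lib.H28.TitsM

variable {G : Type*} [Group G]

theorem Rels.inv_st {x : ℕ → G} (h : Rels x) {a b c : ℕ} (hs : (a, b, c) ∈ stL) :
    x a * x b * (x a)⁻¹ * (x b)⁻¹ = x c := h.st (a, b, c) hs

theorem Rels.comm' {x : ℕ → G} (h : Rels x) {a b : ℕ} (hp : (a, b) ∈ commL) : x a * x b = x b * x a :=
  h.comm (a, b) hp

/-- the Steinberg relations of the long root elements -/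
theorem Rels.st3_long {x : ℕ → G} (h : Rels x) : St3 (x 0) (x 6) (x 1) (x 10) (x 5) (x 11) where
  c01 := h.cube 0 (by norm_num)
  c12 := h.cube 6 (by norm_num)
  c02 := h.cube 1 (by norm_num)
  c20 := h.cube 10 (by norm_num)
  c21 := h.cube 5 (by norm_num)
  c10 := h.cube 11 (by norm_num)
  k01_02 := h.comm' (by decide)
  k01_21 := h.comm' (by decide)
  k02_12 := (h.comm' (a := 6) (b := 1) (by decide)).symm
  k10_12 := (h.comm' (a := 6) (b := 11) (by decide)).symm
  k10_20 := (h.comm' (a := 10) (b := 11) (by decide)).symm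
  k20_21 := h.comm' (by decide)
  s01_12 := h.inv_st (by decide)
  s02_21 := h.inv_st (by decide)
  s10_02 := h.inv_st (by decide)
  s12_20 := h.inv_st (by decide)
  s20_01 := h.inv_st (by decide)
  s21_10 := h.inv_st (by decide)

/-- the Steinberg relations of the short root elements -/
theorem Rels.st3_short {x : ℕ → G} (h : Rels x) : St3 (x 2) (x 7) (x 3) (x 8) (x 4) (x 9) where
  c01 := h.cube 2 (by norm_num)
  c12 := h.cube 7 (by norm_num)
  c02 := h.cube 3 (by norm_num)
  c20 := h.cube 8 (by norm_num)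
  c21 := h.cube 4 (by norm_num)
  c10 := h.cube 9 (by norm_num)
  k01_02 := h.comm' (by decide)
  k01_21 := h.comm' (by decide)
  k02_12 := (h.comm' (a := 7) (b := 3) (by decide)).symm
  k10_12 := (h.comm' (a := 7) (b := 9) (by decide)).symm
  k10_20 := (h.comm' (a := 8) (b := 9) (by decide)).symm
  k20_21 := h.comm' (by decide)
  s01_12 := h.inv_st (by decide)
  s02_21 := h.inv_st (by decide)
  s10_02 := h.inv_st (by decide)
  s12_20 := h.inv_st (by decide)
  s20_01 := h.inv_st (by decide)
  s21_10 := h.inv_st (by decide)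

/-- **the bound** -/
theorem card_le_of_rels {Γ : Type*} [Group Γ] (x : ℕ → Γ)
    (hgen : Subgroup.closure {g : Γ | ∃ i < 12, g = x i} = ⊤) (hx : Rels x) :
    Finite Γ ∧ Nat.card Γ ≤ 12737088 := by
  set γ : ℕ → Γ := lv x with hγ
  have hrel' : ∀ w ∈ relL, (w.map γ).prod = 1 := hx.ev_eq_one
  set E : Subgroup Γ := Subgroup.closure {x 0, x 6, x 1, x 10, x 5, x 11} with hE
  have hsub : ∀ w ∈ subL, (w.map γ).prod ∈ E := by
    intro w hw
    simp only [subL, List.mem_cons, List.not_mem_nil, or_false] at hw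
    rcases hw with rfl | rfl | rfl | rfl | rfl | rfl <;>
      simp only [hγ, List.map_cons, List.map_nil, List.prod_cons, List.prod_nil, mul_one]
    · rw [lv_of_lt x (by norm_num)]; exact Subgroup.subset_closure (by simp)
    · rw [lv_of_lt x (by norm_num)]; exact Subgroup.subset_closure (by simp)
    · rw [lv_of_lt x (by norm_num)]; exact Subgroup.subset_closure (by simp)
    · rw [lv_of_lt x (by norm_num)]; exact Subgroup.subset_closure (by simp)
    · rw [lv_of_lt x (by norm_num)]; exact Subgroup.subset_closure (by simp)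
    · rw [lv_of_lt x (by norm_num)]; exact Subgroup.subset_closure (by simp)
  have hOK := CertGlue.wordsOK Cert.words relL subL Cert.words_spec γ hrel' E hsub
  have hI := Cert.run (fun l => (γ l)⁻¹) (((1 : Γ) : Γ ⧸ E)) hOK
  have hgen' : Subgroup.closure {g : Γ | ∃ l < 24, g = (fun l => (γ l)⁻¹) l} = ⊤ := by
    rw [eq_top_iff, ← hgen, Subgroup.closure_le]
    rintro y ⟨i, hi, rfl⟩
    have h1 : (γ i)⁻¹ ∈ Subgroup.closure {g : Γ | ∃ l < 24, g = (fun l => (γ l)⁻¹) l} :=
      Subgroup.subset_closure ⟨i, by omega, rfl⟩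
    have h2 := Subgroup.inv_mem _ h1
    rw [inv_inv, hγ, lv_of_lt x hi] at h2
    exact h2
  obtain ⟨hfin, hcard⟩ := card_leD Cert.F 24 16777216 (fun l => (γ l)⁻¹) (((1 : Γ) : Γ ⧸ E)) 86111 5871 hI
    Cert.rows Cert.mask Cert.mask_ok Cert.mask_zero Cert.rows_ok hgen'
  rw [Cert.rows_length] at hcard
  obtain ⟨hEfin, hEcard⟩ := hx.st3_long.card_le
  rw [← hE] at hEfin hEcard
  have hGfin : Finite Γ := Finite.of_equiv _ (Subgroup.groupEquivQuotientProdSubgroup (s := E)).symm
  refine ⟨hGfin, ?_⟩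
  have hmul := Subgroup.card_eq_card_quotient_mul_card_subgroup E
  calc Nat.card Γ = Nat.card (Γ ⧸ E) * Nat.card E := hmul
    _ ≤ 2268 * 5616 := Nat.mul_le_mul hcard hEcard
    _ = 12737088 := by norm_num

end Cfsg.Agent.Lib.H28.G23M
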