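import Cfsg.Agent.Lib.H17.M22M.MonoModel
import Cfsg.Agent.Lib.H28.G23M.Words
import Cfsg.Agent.Lib.H28.G23M.ModelTabs

set_option autoImplicit false
set_option maxRecDepth 100000

/-!
# A monomial permutation model of the triple cover of `G₂(3)` (helper28)

The 24 letters act on `Fin 756 × ZMod 12` by the packed tables of `ModelTabs.lean`; all the relators act trivially and
the word `[0, 4, 12, 16]` acts as the shift by `4`.
-/

namespace Cfsg.Agent.Lib.H28.G23M

open Cfsg.Agent.Lib.H17.MonoModel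

section perms

variable {tabs : ℕ → ℕ} {n : ℕ}

/-- the pair words are trivial on the tables -/
def PairsOK (tabs : ℕ → ℕ) (n : ℕ) : Prop :=
  ∀ x < 24, checkWordM [tabs x, tabs (linv x)] 0 n = true

theorem linv_linv (x : ℕ) (hx : x < 24) : linv (linv x) = x := by
  interval_cases x <;> rfl

theorem linv_lt (x : ℕ) (hx : x < 24) : linv x < 24 := by
  interval_cases x <;> decide

theorem fG_inv (hr : Range tabs n) (hp : PairsOK tabs n) (x : ℕ) (hx : x < 24)
    (q : Fin n × ZMod 12) : fM hr (linv x) (fM hr x q) = q := by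
  have h := compF_eq_shift hr [x, linv x] 0 (hp x hx) q
  have h2 : compF hr [x, linv x] q = fM hr (linv x) (fM hr x q) := rfl
  rw [h2] at h
  rw [h]
  apply Prod.ext
  · rfl
  · change q.2 + ((0 : ℕ) : ZMod 12) = q.2
    simp

open Classical in
/-- the permutation of a letter -/
noncomputable def σG (hr : Range tabs n) (hp : PairsOK tabs n) (x : ℕ) :
    Equiv.Perm (Fin n × ZMod 12) :=
  if hx : x < 24 then
    { toFun := fM hr x
      invFun := fM hr (linv x)
      left_inv := fun q => fG_inv hr hp x hx q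
      right_inv := fun q => by
        have := fG_inv hr hp (linv x) (linv_lt x hx) q
        rw [linv_linv x hx] at this
        exact this }
  else 1

theorem σG_apply (hr : Range tabs n) (hp : PairsOK tabs n) (x : ℕ) (hx : x < 24)
    (q : Fin n × ZMod 12) : σG hr hp x q = fM hr x q := by
  unfold σG
  rw [dif_pos hx]
  rfl

theorem word_permG (hr : Range tabs n) (hp : PairsOK tabs n) (w : List ℕ) (hw : ∀ x ∈ w, x < 24)
    (q : Fin n × ZMod 12) :
    ((w.map fun x => (σG hr hp x)⁻¹).prod)⁻¹ q = compF hr w q := by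
  induction w generalizing q with
  | nil => simp [compF_nil]
  | cons x u ih =>
    rw [List.map_cons, List.prod_cons, mul_inv_rev, inv_inv, Equiv.Perm.mul_apply,
      σG_apply hr hp x (hw x List.mem_cons_self), compF_cons]
    exact ih (fun y hy => hw y (List.mem_cons_of_mem _ hy)) _

theorem word_permG_eq (hr : Range tabs n) (hp : PairsOK tabs n) (w : List ℕ)
    (hw : ∀ x ∈ w, x < 24) (e : ℕ) (h : checkWordM (w.map tabs) e n = true) :
    (w.map fun x => (σG hr hp x)⁻¹).prod = (shiftP n (e : ZMod 12))⁻¹ := by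
  rw [← inv_inj, inv_inv]
  apply Equiv.ext
  intro q
  rw [word_permG hr hp w hw q, compF_eq_shift hr w e h q]
  rfl

theorem σG_inv (hr : Range tabs n) (hp : PairsOK tabs n) (x : ℕ) (hx : x < 24) :
    σG hr hp (linv x) = (σG hr hp x)⁻¹ := by
  apply Equiv.ext
  intro q
  rw [σG_apply hr hp _ (linv_lt x hx)]
  have : (σG hr hp x)⁻¹ q = fM hr (linv x) q := by
    rw [Equiv.Perm.inv_def]
    unfold σG
    rw [dif_pos hx]
    rfl
  rw [this]

/-- the generators of the model -/
noncomputable def yG (hr : Range tabs n) (hp : PairsOK tabs n) (i : ℕ) : Equiv.Perm (Fin n × ZMod 12) :=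
  (σG hr hp i)⁻¹

theorem lv_yG (hr : Range tabs n) (hp : PairsOK tabs n) (l : ℕ) (hl : l < 24) :
    lv (yG hr hp) l = (σG hr hp l)⁻¹ := by
  unfold lv yG
  by_cases h : (l / 12) % 2 = 0
  · have h2 : l % 12 = l := by omega
    rw [if_pos h, h2]
  · have h2 : l % 12 < 24 := by omega
    have h3 : linv (l % 12) = l := by
      unfold linv
      have : (l % 12 / 12) % 2 = 0 := by omega
      rw [if_pos this]
      omega
    rw [if_neg h, inv_inv, ← h3, σG_inv hr hp _ h2, inv_inv, h3]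

theorem ev_yG (hr : Range tabs n) (hp : PairsOK tabs n) (w : List ℕ) (hw : ∀ x ∈ w, x < 24) :
    ev (yG hr hp) w = (w.map fun x => (σG hr hp x)⁻¹).prod := by
  unfold ev
  congr 1
  apply List.map_congr_left
  intro l hl
  exact lv_yG hr hp l (hw l hl)

theorem ev_yG_eq (hr : Range tabs n) (hp : PairsOK tabs n) (w : List ℕ) (hw : ∀ x ∈ w, x < 24) (e : ℕ)
    (h : checkWordM (w.map tabs) e n = true) : ev (yG hr hp) w = (shiftP n (e : ZMod 12))⁻¹ := by
  rw [ev_yG hr hp w hw, word_permG_eq hr hp w hw e h]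

theorem shiftP_commG (hr : Range tabs n) (hp : PairsOK tabs n) (x : ℕ) (hx : x < 24) (e : ZMod 12) :
    Commute (shiftP n e) (σG hr hp x) := by
  apply Equiv.ext
  intro q
  change shiftP n e (σG hr hp x q) = σG hr hp x (shiftP n e q)
  rw [σG_apply hr hp x hx, σG_apply hr hp x hx, shiftP_apply, shiftP_apply, shift_fM]

end perms

open Model

/-- the central words with the shifts by which they act -/
def cenE : List (List ℕ × ℕ) := [([0, 4, 12, 16], 4), ([0, 7, 12, 19], 8), ([1, 3, 13, 15], 8), ([1, 8, 13, 20], 4), ([5, 2, 17, 14], 4), ([5, 9, 17, 21], 8), ([6, 2, 18, 14], 8), ([6, 9, 18, 21], 4), ([10, 3, 22, 15], 4), ([10, 8, 22, 20], 8), ([11, 4, 23, 16], 8), ([11, 7, 23, 19], 4), ([20, 12, 8, 0, 13, 18, 4, 2], 4), ([21, 12, 9, 0, 5, 22, 19, 15], 4), ([19, 13, 7, 1, 0, 5, 15, 2], 4), ([21, 13, 9, 1, 18, 11, 8, 16], 4), ([22, 14, 10, 2, 5, 0, 15, 19], 0), ([23, 14, 11, 2, 18, 13, 4, 20], 0), ([18, 15, 6, 3, 13, 0, 2, 4], 0), ([23, 15, 11, 3, 10, 17,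 19, 9], 0), ([17, 16, 5, 4, 0, 13, 14, 3], 0), ([22, 16, 10, 4, 23, 6, 8, 9], 0), ([16, 17, 4, 5, 12, 1, 2, 15], 4), ([20, 17, 8, 5, 10, 11, 21, 7], 4), ([15, 18, 3, 6, 1, 12, 14, 16], 4), ([19, 18, 7, 6, 23, 22, 9, 8], 4), ([13, 19, 1, 7, 12, 17, 3, 14], 0), ([18, 19, 6, 7, 11, 10, 21, 20], 0), ([12, 20, 0, 8, 1, 6, 16, 14], 0), ([17, 20, 5, 8, 22, 23, 9, 19], 0), ([12, 21, 0, 9, 17, 10, 7, 3], 0), ([13, 21, 1, 9, 6, 23, 20, 4], 0), ([14, 22, 2, 10, 17, 12, 3, 7], 4), ([16, 22, 4, 10, 11, 18, 20, 21], 4), ([14, 23, 2, 11, 6, 1, 16, 8], 4), ([15, 23, 3, 11, 22, 5, 7, 21], 4)]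

theorem cenE_fst : cenE.map Prod.fst = cenL := by
  decide +kernel

theorem tabs_ge (x : ℕ) (hx : 24 ≤ x) : tabs x = 0 := by
  unfold tabs
  split <;> first | omega | rfl

theorem range_chk : ∀ x < 24, checkRangeM (tabs x) 756 756 = true := by
  decide +kernel

theorem range_tabs : Range tabs 756 := by
  intro x p hp
  by_cases hx : x < 24
  · exact checkRangeM_sound _ _ _ (range_chk x hx) p hp
  · rw [tabs_ge x (by omega)]
    have : lkM 0 p = 0 := by
      unfold lkM
      simp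
    rw [this]
    norm_num

theorem pairs_tabs : PairsOK tabs 756 := by
  unfold PairsOK
  decide +kernel

theorem cube_chk : ∀ i < 12, checkWordM ([i, i, i].map tabs) 0 756 = true := by
  decide +kernel

theorem st_chk : ∀ s ∈ stL, checkWordM ((stWord s.1 s.2.1 s.2.2).map tabs) 0 756 = true := by
  decide +kernel

theorem comm_chk : ∀ p ∈ commL, checkWordM ((commWord p.1 p.2).map tabs) 0 756 = true := by
  decide +kernel

theorem cen_chk : ∀ v ∈ cenE, checkWordM (v.1.map tabs) v.2 756 = true := by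
  decide +kernel

theorem st_lt : ∀ s ∈ stL, ∀ x ∈ stWord s.1 s.2.1 s.2.2, x < 24 := by
  decide +kernel

theorem comm_lt : ∀ p ∈ commL, ∀ x ∈ commWord p.1 p.2, x < 24 := by
  decide +kernel

theorem cen_lt : ∀ v ∈ cenE, ∀ x ∈ v.1, x < 24 := by
  decide +kernel

/-- the generators of the model -/
noncomputable def yM : ℕ → Equiv.Perm (Fin 756 × ZMod 12) := yG range_tabs pairs_tabs

theorem ev_yM_cen {v : List ℕ × ℕ} (hv : v ∈ cenE) : ev yM v.1 = (shiftP 756 (v.2 : ZMod 12))⁻¹ :=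
  ev_yG_eq range_tabs pairs_tabs v.1 (cen_lt v hv) v.2 (cen_chk v hv)

theorem rels_yM : Rels yM := by
  refine ⟨?_, ?_, ?_, ?_⟩
  · intro i hi
    have h := ev_yG_eq range_tabs pairs_tabs [i, i, i] (by
      intro x hx
      simp only [List.mem_cons, List.not_mem_nil, or_false, or_self] at hx
      omega) 0 (cube_chk i hi)
    rw [Nat.cast_zero, shiftP_zero, inv_one, ev_cons, ev_cons, ev_single, lv_of_lt _ hi, ← mul_assoc, ← pow_two,
      ← pow_succ] at h
    exact h
  · intro s hs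
    obtain ⟨h1, h2, h3⟩ := stL_lt s hs
    have h := ev_yG_eq range_tabs pairs_tabs _ (st_lt s hs) 0 (st_chk s hs)
    rw [Nat.cast_zero, shiftP_zero, inv_one, ev_stWord, lv_of_lt _ h1, lv_of_lt _ h2, lv_of_lt _ h3,
      mul_inv_eq_one] at h
    exact h
  · intro p hp
    obtain ⟨h1, h2⟩ := commL_lt p hp
    have h := ev_yG_eq range_tabs pairs_tabs _ (comm_lt p hp) 0 (comm_chk p hp)
    rw [Nat.cast_zero, shiftP_zero, inv_one, ev_commWord, lv_of_lt _ h1, lv_of_lt _ h2, mul_inv_eq_one,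
      mul_inv_eq_iff_eq_mul] at h
    exact h
  · intro c hc q hq
    rw [← cenE_fst, List.mem_map] at hc
    obtain ⟨v, hv, rfl⟩ := hc
    rw [ev_yM_cen hv]
    have h := shiftP_commG range_tabs pairs_tabs q (by omega) (v.2 : ZMod 12)
    have h2 : Commute ((shiftP 756 (v.2 : ZMod 12))⁻¹) ((σG range_tabs pairs_tabs q)⁻¹) := h.inv_inv
    exact h2.eq

/-- **the model** -/
theorem exists_model : ∃ (M : Type) (_ : Group M) (y : ℕ → M), Rels y ∧ ev y [0, 4, 12, 16] ≠ 1 := by
  refine ⟨Equiv.Perm (Fin 756 × ZMod 12), inferInstance, yM, rels_yM, ?_⟩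
  have h0 : (([0, 4, 12, 16], 4) : List ℕ × ℕ) ∈ cenE := by decide +kernel
  rw [ev_yM_cen h0]
  intro h
  rw [inv_eq_one] at h
  have h2 := congrArg (fun f : Equiv.Perm (Fin 756 × ZMod 12) => (f (⟨0, by norm_num⟩, 0)).2) h
  simp only [shiftP_apply, shift, Equiv.Perm.coe_one, id_eq] at h2
  revert h2
  decide

end Cfsg.Agent.Lib.H28.G23M
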