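import Cfsg.Agent.Lib.H28.G23M.Bound
import Cfsg.Agent.Lib.H28.G23M.Model
import Cfsg.Agent.Lib.H3.G23AB
import Cfsg.Agent.Lib.H19.G23LF
import Cfsg.Agent.Lib.H17.ChevBC
import Cfsg.Agent.Lib.H18.SchurTransport
import Cfsg.Agent.Lib.H29.ChevOrderG2

set_option autoImplicit false

/-!
# The Schur multiplier of `G₂(3)` is cyclic of order 3 (helper28; assembly)
-/

namespace Cfsg.Agent.Lib.H28.G23M

open Cfsg.Lie

theorem card_G23 : Nat.card ↥(chevG2.group (ZMod 3)) = 4245696 := by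
  have h := Cfsg.Agent.Lib.H29.Chev.order_G2 (F := ZMod 3)
  rw [Nat.card_zmod] at h
  rw [h]
  norm_num

/-- the multiplier of `G₂(3)` over `ZMod 3`, given generators with the relations -/
theorem mult_G23_of_gens
    (hgs : ∃ X : ℕ → ↥(chevG2.group (ZMod 3)),
      Subgroup.closure {g : ↥(chevG2.group (ZMod 3)) | ∃ i < 12, g = X i} = ⊤ ∧ Rels X ∧
        ∀ c ∈ cenL, ev X c = 1) :
    Cfsg.HasCyclicSchurMultiplier ↥(chevG2.group (ZMod 3)) 3 := by
  obtain ⟨X, hgen, hX, hXc⟩ := hgs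
  have : Finite ↥(chevG2.group (ZMod 3)) := Nat.finite_of_card_ne_zero (by rw [card_G23]; norm_num)
  exact Cfsg.Agent.Lib.H3.G23M.main_abstract card_G23 X hgen hX hXc
    (fun Γ _ x hg hx => card_le_of_rels x hg hx) exists_model
    (fun Γ _ _ σ hσ => Cfsg.Agent.Lib.H19.G23M.exists_lift_rels σ hσ.1 hσ.2.1 X hX hXc)

/-- transport to any field with three elements -/
theorem mult_of_card_three {F : Type*} [Field F] [Fintype F] (hF : Fintype.card F = 3)
    (h : Cfsg.HasCyclicSchurMultiplier ↥(chevG2.group (ZMod 3)) 3) :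
    Cfsg.HasCyclicSchurMultiplier ↥(chevG2.group F) 3 := by
  have : Finite ↥(chevG2.group (ZMod 3)) := Nat.finite_of_card_ne_zero (by rw [card_G23]; norm_num)
  let e : ZMod 3 ≃+* F := ZMod.ringEquivOfPrime F Nat.prime_three hF
  exact Cfsg.Agent.Lib.H18.SchurTransport.hasSchurMultiplier_of_group_mulEquiv
    (Cfsg.Agent.Lib.H17.ChevBC.groupEquiv chevG2 e) h

end Cfsg.Agent.Lib.H28.G23M
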